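import Groth.Agent.LangLib.Semilinear
import Groth.Agent.S11566
import Mathlib.FieldTheory.IsAlgClosed.Basic
import Mathlib.LinearAlgebra.Trace
import Mathlib.LinearAlgebra.TensorProduct.Tower
import Mathlib.LinearAlgebra.Dimension.Constructions

/-!
# Fixed vectors of Frobenius-semilinear endomorphisms over algebraically closed fields
-/

universe u v

open Polynomial Module

namespace Groth.Agent.SemilinFix

variable {K V : Type*} [Field K] [AddCommGroup V] [Module K V] (p : ℕ) (φ : V →+ V)

/-- A relation `φ^m v = ∑ a i • φ^i v` with `a 0 ≠ 0` and independent `φ^i v`, `i < m`, gives a fixed vector. -/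
theorem exists_fixed_of_relation [IsAlgClosed K] [Fact p.Prime] [CharP K p]
    (hφ : ∀ (c : K) (x : V), φ (c • x) = c ^ p • φ x) (v : V) (m : ℕ) (a : ℕ → K) (ha : a 0 ≠ 0)
    (hli : LinearIndependent K (fun i : Fin (m + 1) => φ^[(i : ℕ)] v))
    (hrel : φ^[m + 1] v = ∑ i ∈ Finset.range (m + 1), a i • φ^[i] v) :
    ∃ x, x ≠ 0 ∧ φ x = x := by
  classical
  have hp : 1 < p := (Fact.out : p.Prime).one_lt
  let Q : ℕ → K[X] := fun i => Nat.rec (C (a 0) * X ^ p) (fun j q => q ^ p + C (a (j + 1)) * X ^ p) i
  have hQd : ∀ i, (Q i).natDegree = p ^ (i + 1) := by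
    intro i
    induction i with
    | zero => simp [Q, natDegree_C_mul_X_pow p (a 0) ha]
    | succ j ih =>
      have h1 : (Q (j + 1)) = Q j ^ p + C (a (j + 1)) * X ^ p := rfl
      rw [h1, natDegree_add_eq_left_of_natDegree_lt, natDegree_pow, ih]
      · ring
      · rw [natDegree_pow, ih]
        refine (natDegree_C_mul_X_pow_le _ _).trans_lt ?_
        calc p = p ^ 1 := (pow_one p).symm
          _ < p ^ (j + 2) := Nat.pow_lt_pow_right hp (by omega)
          _ = p * p ^ (j + 1) := by ring
  have hQ : ∀ i, derivative (Q i) = 0 := by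
    intro i
    cases i with
    | zero => simp [Q, derivative_X_pow, CharP.cast_eq_zero K p]
    | succ j => simp [Q, derivative_pow, derivative_X_pow, CharP.cast_eq_zero K p]
  have hQ0 : ∀ i, (Q i).coeff 0 = 0 := by
    intro i
    rw [coeff_zero_eq_eval_zero]
    induction i with
    | zero => simp [Q, (Fact.out : p.Prime).ne_zero]
    | succ j ih => simp [Q, (Fact.out : p.Prime).ne_zero] at ih ⊢; rw [ih]
  obtain ⟨R, hR⟩ : (X : K[X]) ∣ Q m - X := X_dvd_iff.2 (by simp [hQ0])
  have hR0 : R.coeff 0 = -1 := by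
    have h1 : derivative (Q m - X) = -1 := by simp [hQ]
    rw [hR] at h1
    have h2 := congrArg (fun P => P.coeff 0) h1
    simpa [coeff_derivative] using h2
  obtain ⟨t, ht⟩ : ∃ t, IsRoot R t := by
    refine IsAlgClosed.exists_root _ fun h => ?_
    have h2 : (Q m - X).natDegree ≤ 1 := by
      rw [hR]
      exact (natDegree_mul_le).trans (by rw [natDegree_X, natDegree_eq_zero_iff_degree_le_zero.2 h.le])
    have h3 : (Q m - X).natDegree = p ^ (m + 1) := by
      rw [natDegree_sub_eq_left_of_natDegree_lt, hQd]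
      rw [natDegree_X, hQd]
      exact Nat.one_lt_pow (Nat.succ_ne_zero m) hp
    have h4 : 1 < p ^ (m + 1) := Nat.one_lt_pow (Nat.succ_ne_zero m) hp
    omega
  have ht0 : t ≠ 0 := by
    rintro rfl
    rw [IsRoot, ← coeff_zero_eq_eval_zero, hR0] at ht
    exact one_ne_zero (neg_eq_zero.1 ht)
  have hQt : (Q m).eval t = t := by
    have h1 : (Q m - X).eval t = 0 := by rw [hR, eval_mul, ht, mul_zero]
    rwa [eval_sub, eval_X, sub_eq_zero] at h1
  refine ⟨∑ i ∈ Finset.range (m + 1), (Q i).eval t • φ^[i] v, fun hx => ?_, ?_⟩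
  · rw [Finset.sum_range (fun i => (Q i).eval t • φ^[i] v)] at hx
    exact ht0 (hQt.symm.trans (Fintype.linearIndependent_iff.1 hli _ hx ⟨m, m.lt_succ_self⟩))
  · have h1 : φ (∑ i ∈ Finset.range (m + 1), (Q i).eval t • φ^[i] v) =
        ∑ i ∈ Finset.range (m + 1), ((Q i).eval t) ^ p • φ^[i + 1] v := by
      rw [map_sum]
      exact Finset.sum_congr rfl fun i _ => by rw [hφ, Function.iterate_succ_apply']
    rw [h1, Finset.sum_range_succ, hQt, hrel, Finset.smul_sum,
      Finset.sum_range_succ' (fun i => (Q i).eval t • φ^[i] v),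
      Finset.sum_range_succ' (fun i => t ^ p • a i • φ^[i] v)]
    have hx : ∀ i, (Q (i + 1)).eval t = (Q i).eval t ^ p + a (i + 1) * t ^ p := fun i => by simp [Q]
    have h0 : (Q 0).eval t = a 0 * t ^ p := by simp [Q]
    simp only [hx, h0, smul_smul, add_smul, Finset.sum_add_distrib, mul_comm (t ^ p)]
    abel

/-- Without non-zero fixed vectors every vector is killed by an iterate. -/
theorem exists_iterate_eq_zero [IsAlgClosed K] [Fact p.Prime] [CharP K p] [FiniteDimensional K V]
    (hφ : ∀ (c : K) (x : V), φ (c • x) = c ^ p • φ x) (hfix : ∀ x, φ x = x → x = 0) (v : V) :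
    ∃ N, φ^[N] v = 0 := by
  classical
  by_contra! hne
  -- the first power lying in the span of the previous ones
  have hex : ∃ n, φ^[n] v ∈ Submodule.span K (Set.range fun i : Fin n => φ^[(i : ℕ)] v) := by
    by_contra! h
    have hli : ∀ n, LinearIndependent K (fun i : Fin n => φ^[(i : ℕ)] v) := by
      intro n
      induction n with
      | zero => exact linearIndependent_empty_type
      | succ n ih =>
        rw [linearIndependent_fin_succ']
        exact ⟨ih, h n⟩
    have := (hli (Module.finrank K V + 1)).fintype_card_le_finrank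
    simp at this
  have hn := Nat.find_spec hex
  have hli : LinearIndependent K (fun i : Fin (Nat.find hex) => φ^[(i : ℕ)] v) := by
    have : ∀ n ≤ Nat.find hex, LinearIndependent K (fun i : Fin n => φ^[(i : ℕ)] v) := by
      intro n hn
      induction n with
      | zero => exact linearIndependent_empty_type
      | succ n ih =>
        rw [linearIndependent_fin_succ']
        exact ⟨ih (by omega), Nat.find_min hex (by omega)⟩
    exact this _ le_rfl
  obtain ⟨c, hc⟩ := (Submodule.mem_span_range_iff_exists_fun K).1 hn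
  by_cases hc0 : ∀ i, c i = 0
  · exact hne _ (by rw [← hc]; simp [hc0])
  push Not at hc0
  obtain ⟨j₀, hj₀⟩ := hc0
  obtain ⟨n, hn'⟩ : ∃ n, Nat.find hex = n := ⟨_, rfl⟩
  let a : ℕ → K := fun i => if h : i < Nat.find hex then c ⟨i, h⟩ else 0
  have hj : ∃ j, a j ≠ 0 := ⟨j₀, by simp only [a]; rw [dif_pos j₀.2]; exact hj₀⟩
  let j := Nat.find hj
  have hjn : j < Nat.find hex := by
    by_contra h
    exact Nat.find_spec hj (dif_neg h)
  obtain ⟨m, hm⟩ : ∃ m, Nat.find hex = j + (m + 1) := ⟨Nat.find hex - j - 1, by omega⟩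
  have hrel : φ^[Nat.find hex] v = ∑ i ∈ Finset.range (Nat.find hex), a i • φ^[i] v := by
    rw [Finset.sum_range (fun i => a i • φ^[i] v), ← hc]
    exact Finset.sum_congr rfl fun i _ => by simp only [a, dif_pos i.2]
  refine (exists_fixed_of_relation p φ hφ (φ^[j] v) m (fun i => a (j + i))
    (by simpa using Nat.find_spec hj) ?_ ?_).elim fun x hx => hx.1 (hfix x hx.2)
  · have h2 := hli.comp (fun i : Fin (m + 1) => (⟨j + i, by omega⟩ : Fin (Nat.find hex)))
      (fun a b hab => Fin.ext (by simpa using hab))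
    have h3 : (fun i : Fin (m + 1) => φ^[(i : ℕ)] (φ^[j] v)) =
        (fun i : Fin (Nat.find hex) => φ^[(i : ℕ)] v) ∘
          (fun i : Fin (m + 1) => (⟨j + i, by omega⟩ : Fin (Nat.find hex))) := by
      funext i
      simp only [Function.comp_apply, ← Function.iterate_add_apply, add_comm j]
    rw [h3]
    exact h2
  · rw [← Function.iterate_add_apply, add_comm (m + 1), ← hm, hrel, hm, Finset.sum_range_add,
      Finset.sum_eq_zero (fun i hi => by
        rw [show a i = 0 from not_not.1 (Nat.find_min hj (Finset.mem_range.1 hi)), zero_smul]), zero_add]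
    exact Finset.sum_congr rfl fun i _ => by rw [← Function.iterate_add_apply, add_comm j i]

/-- Fixed vectors linearly independent over the prime field are independent over the field. -/
theorem linearIndependent_of_fixed {F₀ : Type*} [Field F₀] [Algebra F₀ K] [Module F₀ V] [IsScalarTower F₀ K V]
    [Fact p.Prime] [CharP K p] (hφ : ∀ (c : K) (x : V), φ (c • x) = c ^ p • φ x)
    (hF₀ : ∀ c : K, c ^ p = c → c ∈ Set.range (algebraMap F₀ K))
    {ι : Type*} (w : ι → V) (hw : ∀ i, φ (w i) = w i) (hli : LinearIndependent F₀ w) :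
    LinearIndependent K w := by
  classical
  rw [linearIndependent_iff'] at hli ⊢
  intro s
  induction s using Finset.induction_on with
  | empty => intro g _ i hi; simp at hi
  | insert j s hj ih =>
    intro g hg
    have key : g j = 0 := by
      by_contra hgj
      have h1 : ∑ i ∈ insert j s, ((g j)⁻¹ * g i) • w i = 0 := by
        simp_rw [← smul_smul, ← Finset.smul_sum, hg, smul_zero]
      have h2 : ∑ i ∈ insert j s, (((g j)⁻¹ * g i) ^ p) • w i = 0 := by
        have := congrArg φ h1
        rw [map_sum, map_zero] at this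
        rw [← this]
        exact Finset.sum_congr rfl fun i _ => by rw [hφ, hw]
      have h3 : ∑ i ∈ s, (((g j)⁻¹ * g i) ^ p - (g j)⁻¹ * g i) • w i = 0 := by
        have h4 : ∑ i ∈ insert j s, (((g j)⁻¹ * g i) ^ p - (g j)⁻¹ * g i) • w i = 0 := by
          simp_rw [sub_smul, Finset.sum_sub_distrib, h1, h2, sub_zero]
        rw [Finset.sum_insert hj, inv_mul_cancel₀ hgj, one_pow, sub_self, zero_smul, zero_add] at h4
        exact h4
      have h5 : ∀ i ∈ insert j s, (g j)⁻¹ * g i ∈ Set.range (algebraMap F₀ K) := by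
        intro i hi
        rcases Finset.mem_insert.1 hi with rfl | hi
        · exact ⟨1, by simp [inv_mul_cancel₀ hgj]⟩
        · exact hF₀ _ (sub_eq_zero.1 (ih _ h3 i hi))
      choose! r hr using h5
      have h6 : ∑ i ∈ insert j s, r i • w i = 0 := by
        rw [← h1]
        exact Finset.sum_congr rfl fun i hi => by rw [← hr i hi, algebraMap_smul]
      have h7 := hr j (Finset.mem_insert_self _ _)
      rw [hli _ _ h6 j (Finset.mem_insert_self _ _), map_zero, inv_mul_cancel₀ hgj] at h7
      exact zero_ne_one h7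
    rw [Finset.sum_insert hj, key, zero_smul, zero_add] at hg
    intro i hi
    rcases Finset.mem_insert.1 hi with rfl | hi
    · exact key
    · exact ih g hg i hi

/-- The trace of a linear map agreeing with an iterate of a semilinear map is its trace on the fixed vectors. -/
theorem trace_eq_trace_fixed {F₀ : Type*} [Field F₀] [Algebra F₀ K] [Module F₀ V] [IsScalarTower F₀ K V]
    [IsAlgClosed K] [Fact p.Prime] [CharP K p] [FiniteDimensional K V]
    (hφ : ∀ (c : K) (x : V), φ (c • x) = c ^ p • φ x)
    (hF₀ : ∀ c : K, c ^ p = c → c ∈ Set.range (algebraMap F₀ K))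
    (W : Submodule F₀ V) (hW : ∀ y, y ∈ W ↔ φ y = y) [Module.Finite F₀ W]
    (f : ℕ) (hf : f ≠ 0) (T : V →ₗ[K] V) (S : Set V) (hS : Submodule.span K S = ⊤)
    (hT : ∀ x ∈ S, ∀ N, T^[N] x = φ^[f * N] x)
    (G : W →ₗ[F₀] W) (hG : ∀ y : W, (G y : V) = T y) :
    algebraMap F₀ K (LinearMap.trace F₀ W G) = LinearMap.trace K V T := by
  classical
  let b := Module.Free.chooseBasis F₀ W
  have hb : ∀ i, φ (b i : V) = b i := fun i => (hW _).1 (b i).2
  have hli : LinearIndependent K (fun i => (b i : V)) :=
    linearIndependent_of_fixed p φ hφ hF₀ _ hb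
      (b.linearIndependent.map' W.subtype (Submodule.ker_subtype W))
  let U : Submodule K V := Submodule.span K (Set.range fun i => (b i : V))
  have hWU : ∀ y : W, (y : V) ∈ U := by
    intro y
    have : y ∈ Submodule.span F₀ (Set.range b) := by rw [b.span_eq]; trivial
    obtain ⟨r, hr⟩ := (Submodule.mem_span_range_iff_exists_fun F₀).1 this
    rw [← hr, AddSubmonoidClass.coe_finsetSum]
    refine Submodule.sum_mem _ fun i _ => ?_
    rw [Submodule.coe_smul, ← algebraMap_smul K (r i) (b i : V)]
    exact U.smul_mem _ (Submodule.subset_span ⟨i, rfl⟩)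
  have hφU : ∀ x ∈ U, φ x ∈ U := by
    intro x hx
    obtain ⟨c, rfl⟩ := (Submodule.mem_span_range_iff_exists_fun K).1 hx
    rw [map_sum]
    refine Submodule.sum_mem _ fun i _ => ?_
    rw [hφ, hb]
    exact U.smul_mem _ (Submodule.subset_span ⟨i, rfl⟩)
  have hTU : U ≤ U.comap T := by
    rw [Submodule.span_le]
    rintro _ ⟨i, rfl⟩
    rw [SetLike.mem_coe, Submodule.mem_comap, ← hG]
    exact hWU _
  rw [S11566.trace_add T U hTU]
  have hquot : LinearMap.trace K (V ⧸ U) (U.mapQ U T hTU) = 0 := by
    have hwd : U.toAddSubgroup ≤ (U.mkQ.toAddMonoidHom.comp φ).ker := fun x hx =>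
      (Submodule.Quotient.mk_eq_zero U).2 (hφU x hx)
    let ψ : (V ⧸ U) →+ (V ⧸ U) := QuotientAddGroup.lift U.toAddSubgroup _ hwd
    have hψ : ∀ x, ψ (Submodule.Quotient.mk x) = Submodule.Quotient.mk (φ x) := fun x => rfl
    have hψs : ∀ (c : K) (z : V ⧸ U), ψ (c • z) = c ^ p • ψ z := by
      intro c z
      obtain ⟨x, rfl⟩ := Submodule.Quotient.mk_surjective U z
      rw [← Submodule.Quotient.mk_smul, hψ, hψ, hφ, Submodule.Quotient.mk_smul]
    have hψfix : ∀ z, ψ z = z → z = 0 := by
      intro z hz
      obtain ⟨x, rfl⟩ := Submodule.Quotient.mk_surjective U z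
      rw [hψ, Submodule.Quotient.eq] at hz
      let φU : U →+ U :=
        { toFun := fun y => ⟨φ y, hφU _ y.2⟩
          map_zero' := Subtype.ext (map_zero φ)
          map_add' := fun _ _ => Subtype.ext (map_add φ _ _) }
      obtain ⟨y, hy⟩ := LangLib.exists_sub_eq (k := K) (V := U) p φU
        (fun c y => Subtype.ext (hφ c y)) ⟨φ x - x, hz⟩
      have hy' : φ y - (y : V) = φ x - x := congrArg Subtype.val hy
      have hxy : x - y ∈ U := hWU ⟨x - y, (hW _).2 (by rw [map_sub]; linear_combination (norm := abel) -hy')⟩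
      rw [Submodule.Quotient.mk_eq_zero]
      simpa using U.add_mem hxy y.2
    have hψit : ∀ (n : ℕ) (x : V), ψ^[n] (Submodule.Quotient.mk x) = Submodule.Quotient.mk (φ^[n] x) := by
      intro n x
      induction n with
      | zero => rfl
      | succ n ih => rw [Function.iterate_succ_apply', ih, hψ, Function.iterate_succ_apply']
    have hQit : ∀ (n : ℕ) (x : V),
        (U.mapQ U T hTU)^[n] (Submodule.Quotient.mk x) = Submodule.Quotient.mk (T^[n] x) := by
      intro n x
      induction n with
      | zero => rfl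
      | succ n ih => rw [Function.iterate_succ_apply', ih, Submodule.mapQ_apply, Function.iterate_succ_apply']
    have hgen : ∀ x : V, ∃ N, (U.mapQ U T hTU ^ N) (Submodule.Quotient.mk x) = 0 := by
      intro x
      have hx : x ∈ Submodule.span K S := by rw [hS]; trivial
      induction hx using Submodule.span_induction with
      | mem x hx =>
        obtain ⟨N, hN⟩ := exists_iterate_eq_zero p ψ hψs hψfix (Submodule.Quotient.mk x)
        refine ⟨N, ?_⟩
        rw [Module.End.coe_pow, hQit, hT x hx N, ← hψit]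
        obtain ⟨d, hd⟩ : ∃ d, f * N = d + N :=
          ⟨f * N - N, (Nat.sub_add_cancel (Nat.le_mul_of_pos_left N (Nat.pos_of_ne_zero hf))).symm⟩
        rw [hd, Function.iterate_add_apply, hN, iterate_map_zero]
      | zero => exact ⟨0, by simp⟩
      | add x y _ _ hx hy =>
        obtain ⟨n₁, h₁⟩ := hx
        obtain ⟨n₂, h₂⟩ := hy
        refine ⟨n₁ + n₂, ?_⟩
        rw [Submodule.Quotient.mk_add, map_add]
        have e₁ : (U.mapQ U T hTU ^ (n₁ + n₂)) (Submodule.Quotient.mk x) = 0 := by
          rw [add_comm, pow_add, Module.End.mul_apply, h₁, map_zero]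
        have e₂ : (U.mapQ U T hTU ^ (n₁ + n₂)) (Submodule.Quotient.mk y) = 0 := by
          rw [pow_add, Module.End.mul_apply, h₂, map_zero]
        rw [e₁, e₂, add_zero]
      | smul c x _ hx =>
        obtain ⟨n, h⟩ := hx
        exact ⟨n, by rw [Submodule.Quotient.mk_smul, map_smul, h, smul_zero]⟩
    refine (LinearMap.isNilpotent_trace_of_isNilpotent ?_).eq_zero
    refine _root_.Module.End.isNilpotent_iff_of_finite.2 fun z => ?_
    obtain ⟨x, rfl⟩ := Submodule.Quotient.mk_surjective U z
    exact hgen x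
  rw [hquot, add_zero]
  let bU : Basis _ K U := Basis.span hli
  have hbU : ∀ i, (bU i : V) = b i := fun i => Basis.coe_span_apply hli i
  rw [LinearMap.trace_eq_matrix_trace F₀ b, LinearMap.trace_eq_matrix_trace K bU, Matrix.trace, Matrix.trace,
    map_sum]
  refine Finset.sum_congr rfl fun i _ => ?_
  simp only [Matrix.diag_apply, LinearMap.toMatrix_apply]
  have h1 : T.restrict hTU (bU i) = ∑ l, algebraMap F₀ K (b.repr (G (b i)) l) • bU l := by
    refine Subtype.ext ?_
    rw [LinearMap.coe_restrict_apply, hbU, AddSubmonoidClass.coe_finsetSum, ← hG]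
    conv_lhs => rw [← b.sum_repr (G (b i))]
    rw [AddSubmonoidClass.coe_finsetSum]
    exact Finset.sum_congr rfl fun l _ => by rw [Submodule.coe_smul, Submodule.coe_smul, hbU, algebraMap_smul]
  rw [h1, bU.repr_sum_self]

end Groth.Agent.SemilinFix
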